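import Cfsg.Agent.SuzThree.SylowThree
import Cfsg.Agent.BpSpor.SuzThreeCentral
import Cfsg.Agent.FastGrp
import Cfsg.Agent.Prune
set_option linter.all false
open scoped Cfsg.Agent.FastGrp

/-!
# `Suz`: the normalizer of a Sylow 3-subgroup normalizes the elementary abelian subgroup of order `3 ^ 5` (helper212)
-/

set_option autoImplicit false
set_option maxRecDepth 100000

namespace Cfsg.Agent.H212.SuzFive

open Subgroup Cfsg Cfsg.Spor
open Cfsg.Agent.SporadicRecognition.SuzOrder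
  Cfsg.Agent.SuzThree.Basic Cfsg.Agent.SuzThree.Elts
  Cfsg.Agent.SuzThree.Elementary Cfsg.Agent.SuzThree.NormElts Cfsg.Agent.SuzThree.NormAct
open Cfsg.Agent.SuzThree (SylowThree.S)
open Cfsg.Agent.BpSpor.SuzThreeCentral (finSuz card_NA comm_of_three)

/-- a linear combination -/
def lc (a b c d e : V) (v : V) : V :=
  (v.1 * a.1 + v.2.1 * b.1 + v.2.2.1 * c.1 + v.2.2.2.1 * d.1 + v.2.2.2.2 * e.1,
   v.1 * a.2.1 + v.2.1 * b.2.1 + v.2.2.1 * c.2.1 + v.2.2.2.1 * d.2.1 + v.2.2.2.2 * e.2.1,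
   v.1 * a.2.2.1 + v.2.1 * b.2.2.1 + v.2.2.1 * c.2.2.1 + v.2.2.2.1 * d.2.2.1 + v.2.2.2.2 * e.2.2.1,
   v.1 * a.2.2.2.1 + v.2.1 * b.2.2.2.1 + v.2.2.1 * c.2.2.2.1 + v.2.2.2.1 * d.2.2.2.1 + v.2.2.2.2 * e.2.2.2.1,
   v.1 * a.2.2.2.2 + v.2.1 * b.2.2.2.2 + v.2.2.1 * c.2.2.2.2 + v.2.2.2.1 * d.2.2.2.2 + v.2.2.2.2 * e.2.2.2.2)

/-- signed special vectors -/
def sv (b : Bool) (f : Ix) : V := cond b (vec f) (-vec f)

/-- the map of the check -/
def mp (s3 : Bool) (k : Ix) (sk : Bool) (l : Ix) (sl : Bool) : V → V :=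
  lc (vec .i0) (vec .i1) (sv s3 .i3) (sv sk k) (sv sl l)

theorem decomp_lc (L : V →+ V) (v : V) :
    L v = lc (L (vec .i0)) (L (vec .i1)) (L (vec .i2)) (L (vec .i3)) (L (vec .i4)) v := by
  rw [SuzThree.Comb.decomp]
  obtain ⟨a, b, c, d, e⟩ := v
  generalize L (vec .i0) = t0
  generalize L (vec .i1) = t1
  generalize L (vec .i2) = t2
  generalize L (vec .i3) = t3
  generalize L (vec .i4) = t4
  rfl


/-- a special vector -/
def isp (v : V) : Bool := Cfsg.Agent.BpSpor.SuzThreeCentral.allIx.any fun g => v == vec g || v == -vec g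

/-- all vectors -/
def allV : List V := Cfsg.Agent.BpSpor.SuzThreeCentral.allS.flatMap fun a =>
  Cfsg.Agent.BpSpor.SuzThreeCentral.allS.flatMap fun b => Cfsg.Agent.BpSpor.SuzThreeCentral.allS.flatMap fun c =>
    Cfsg.Agent.BpSpor.SuzThreeCentral.allS.flatMap fun d => Cfsg.Agent.BpSpor.SuzThreeCentral.allS.map fun e =>
      (a, b, c, d, e)

/-- the check -/
def ck (s3 : Bool) (k : Ix) (sk : Bool) (l : Ix) (sl : Bool) : Bool :=
  !(isp (mp s3 k sk l sl (vec .i5))) || !(isp (mp s3 k sk l sl (vec .i6))) || !(isp (mp s3 k sk l sl (vec .i7))) ||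
    !(isp (mp s3 k sk l sl (vec .i8))) || !(isp (mp s3 k sk l sl (vec .i9))) || !(isp (mp s3 k sk l sl (vec .i10))) ||
    !(mp s3 k sk l sl (mp s3 k sk l sl (mp s3 k sk l sl (vec .i2))) == vec .i2) ||
    Nat.ble (allV.filter fun v => mp s3 k sk l sl v == v).length 26

theorem ck_all : ∀ (s3 : Bool) (k : Ix) (sk : Bool) (l : Ix) (sl : Bool), ck s3 k sk l sl = true := by
  have h : ∀ (s3 : Bool) (k : Ix) (sk : Bool), isp (mp s3 k sk .i0 true (vec .i5)) = true →
      ∀ (l : Ix) (sl : Bool), ck s3 k sk l sl = true := by decide +kernel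
  intro s3 k sk l sl
  by_cases e : isp (mp s3 k sk .i0 true (vec .i5)) = true
  · exact h _ _ _ e _ _
  · have e2 : mp s3 k sk l sl (vec .i5) = mp s3 k sk .i0 true (vec .i5) := by
      rw [show vec .i5 = (1, 2, 2, 2, 0) from rfl]
      simp only [mp, lc, zero_mul]
    unfold ck
    rw [e2, Bool.eq_false_iff.2 e]
    rfl

theorem mem_allV (v : V) : v ∈ allV := by
  have h : ∀ a : ZMod 3, a ∈ Cfsg.Agent.BpSpor.SuzThreeCentral.allS := by decide
  exact List.mem_flatMap.2 ⟨v.1, h _, List.mem_flatMap.2 ⟨v.2.1, h _, List.mem_flatMap.2 ⟨v.2.2.1, h _,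
    List.mem_flatMap.2 ⟨v.2.2.2.1, h _, List.mem_map.2 ⟨v.2.2.2.2, h _, rfl⟩⟩⟩⟩⟩

theorem isp_of {v : V} {f : Ix} (h : v = vec f ∨ v = -vec f) : isp v = true := by
  unfold isp
  rw [List.any_eq_true]
  refine ⟨f, ?_, ?_⟩
  · cases f <;> decide
  · rw [Bool.or_eq_true, beq_iff_eq, beq_iff_eq]
    exact h

theorem sv_of {v : V} {f : Ix} (h : v = vec f ∨ v = -vec f) : ∃ s : Bool, v = sv s f := by
  rcases h with h | h
  · exact ⟨true, h⟩
  · exact ⟨false, h⟩

/-- an element of order three moving special subgroups centralizes less than `27` elements of `A0` -/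
theorem card_fix {b : ↥NA} (h3 : (b : Suz) ^ 3 = 1) (h0 : b • Ix.i0 = Ix.i0) (h1 : b • Ix.i1 = Ix.i1)
    (h2 : b • Ix.i2 = Ix.i3) : Nat.card ↥(A0 ⊓ centralizer {(b : Suz)}) ≤ 26 := by
  obtain ⟨L, hL⟩ := exists_L b
  have hfix : ∀ f : Ix, b • f = f → L (vec f) = vec f := by
    intro f hf
    have h4 := smul_spec b f
    rw [hf] at h4
    have h5 := comm_of_three h4 (k := 1) (by rw [pow_one]; exact h3)
    apply E_injective
    rw [hL, ← x_eq, h5, mul_inv_cancel_right]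
  have k0 := hfix _ h0
  have k1 := hfix _ h1
  have k2 := isSp_of hL .i2
  rw [h2] at k2
  obtain ⟨s3, k2⟩ := sv_of k2
  obtain ⟨sk, k3⟩ := sv_of (isSp_of hL .i3)
  obtain ⟨sl, k4⟩ := sv_of (isSp_of hL .i4)
  have hmp : ∀ v, L v = mp s3 (b • Ix.i3) sk (b • Ix.i4) sl v := by
    intro v
    rw [decomp_lc, k0, k1, k2, k3, k4]
    rfl
  have hcube : ∀ v, L (L (L v)) = v := by
    intro v
    apply E_injective
    rw [hL, hL, hL]
    have h5 : (b : Suz) * ((b : Suz) * ((b : Suz) * E v * (b : Suz)⁻¹) * (b : Suz)⁻¹) * (b : Suz)⁻¹ =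
        ((b : Suz) * (b : Suz) * (b : Suz)) * E v * ((b : Suz) * (b : Suz) * (b : Suz))⁻¹ := by group
    have h6 : (b : Suz) * (b : Suz) * (b : Suz) = 1 := by rw [← h3, pow_succ, pow_two]
    rw [h5, h6, one_mul, inv_one, mul_one]
  have hck := ck_all s3 (b • Ix.i3) sk (b • Ix.i4) sl
  unfold ck at hck
  simp only [← hmp, hcube, isp_of (isSp_of hL _), Bool.not_true, Bool.false_or, beq_self_eq_true] at hck
  have hle := Nat.le_of_ble_eq_true hck
  -- the injection
  let T : Finset V := (allV.filter fun v => L v == v).toFinset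
  have hT : T.card ≤ 26 := (List.toFinset_card_le _).trans hle
  have hex : ∀ a : ↥(A0 ⊓ centralizer {(b : Suz)}), ∃ v : T, E v = (a : Suz) := by
    rintro ⟨a, ha, hc⟩
    obtain ⟨v, rfl⟩ := mem_A0.1 ha
    refine ⟨⟨v, ?_⟩, rfl⟩
    rw [List.mem_toFinset, List.mem_filter]
    refine ⟨mem_allV v, ?_⟩
    rw [beq_iff_eq]
    apply E_injective
    rw [hL]
    have h5 := mem_centralizer_singleton_iff.1 hc
    rw [← h5, mul_inv_cancel_right]
  choose F hF using hex
  have hinj : Function.Injective F := by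
    intro a a' h
    apply Subtype.ext
    rw [← hF a, ← hF a', h]
  have h6 := Nat.card_le_card_of_injective F hinj
  rw [Nat.card_eq_fintype_card (α := T), Fintype.card_coe] at h6
  exact h6.trans hT

/-- a 3-element of the stabilizer of two special subgroups outside `A0` -/
theorem card_fix' {b : ↥NA} (h3 : (b : Suz) ^ 3 = 1) (h0 : b • Ix.i0 = Ix.i0) (h1 : b • Ix.i1 = Ix.i1)
    (hb : (b : Suz) ∉ A0) : Nat.card ↥(A0 ⊓ centralizer {(b : Suz)}) ≤ 26 := by
  have hfin := finSuz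
  obtain ⟨h, hh⟩ : ∃ h : Ix, b • h ≠ h := by
    by_contra hc
    push Not at hc
    exact hb (mem_of_fix (hc _) (hc _) (hc _) (hc _))
  have n0 : h ≠ Ix.i0 := by rintro rfl; exact hh h0
  have n1 : h ≠ Ix.i1 := by rintro rfl; exact hh h1
  have m0 : b • h ≠ Ix.i0 := by
    intro e
    exact n0 (MulAction.injective b (e.trans h0.symm))
  have m1 : b • h ≠ Ix.i1 := by
    intro e
    exact n1 (MulAction.injective b (e.trans h1.symm))
  obtain ⟨n, e0, e1, e2, e3⟩ := exists_npr Ix.i0 Ix.i1 h (b • h) (by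
    rw [SporadicA.SharpFour.nodup4_iff]
    exact ⟨by decide, n0.symm, m0.symm, n1.symm, m1.symm, hh.symm⟩)
  have k := card_fix (b := n⁻¹ * b * n) (by
    have h4 : ((n⁻¹ * b * n : ↥NA) : Suz) = (n : Suz)⁻¹ * b * ((n : Suz)⁻¹)⁻¹ := by
      rw [inv_inv, Subgroup.coe_mul, Subgroup.coe_mul, Subgroup.coe_inv]
    rw [h4, conj_pow, h3, mul_one, mul_inv_cancel]) (by
    rw [mul_smul, mul_smul, e0, h0, inv_smul_eq_iff, e0]) (by
    rw [mul_smul, mul_smul, e1, h1, inv_smul_eq_iff, e1]) (by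
    rw [mul_smul, mul_smul, e2, inv_smul_eq_iff, e3])
  refine le_trans (Nat.card_le_card_of_injective
    (fun a : ↥(A0 ⊓ centralizer {(b : Suz)}) => (⟨(n : Suz)⁻¹ * a * n, ?_⟩ :
      ↥(A0 ⊓ centralizer {((n⁻¹ * b * n : ↥NA) : Suz)}))) ?_) k
  · obtain ⟨a, ha, hc⟩ := a
    refine ⟨?_, ?_⟩
    · have h5 := (mem_normalizer_iff.1 (NA.inv_mem n.2) a).1 ha
      rwa [inv_inv] at h5
    · have h6 := mem_centralizer_singleton_iff.1 hc
      refine mem_centralizer_singleton_iff.2 ?_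
      rw [Subgroup.coe_mul, Subgroup.coe_mul, Subgroup.coe_inv]
      calc (n : Suz)⁻¹ * a * n * ((n : Suz)⁻¹ * b * n) = (n : Suz)⁻¹ * (a * b) * n := by group
        _ = (n : Suz)⁻¹ * (b * a) * n := by rw [h6]
        _ = (n : Suz)⁻¹ * b * n * ((n : Suz)⁻¹ * a * n) := by group
  · intro a a' h7
    have h8 := congrArg Subtype.val h7
    apply Subtype.ext
    exact mul_left_cancel (mul_right_cancel h8)

theorem fac_three : (Nat.card Suz).factorization 3 = 7 := by
  rw [card_Suz]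
  have h1 : (448345497600 : ℕ) = 3 ^ 7 * 205004800 := by norm_num
  have e1 : (3 ^ 7 : ℕ).factorization 3 = 7 := by
    rw [Nat.Prime.factorization_pow Nat.prime_three, Finsupp.single_eq_same]
  have e2 : (205004800 : ℕ).factorization 3 = 0 := Nat.factorization_eq_zero_of_not_dvd (by norm_num)
  rw [h1, Nat.factorization_mul (by norm_num) (by norm_num), Finsupp.add_apply, e1, e2]

/-- a Sylow 3-subgroup of `Suz` between `A0` and `NA` -/
theorem exists_sylow : ∃ P : Sylow 3 Suz, A0 ≤ P ∧ (P : Subgroup Suz) ≤ SuzThree.SylowThree.K := by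
  have hfin := finSuz
  have h3 : Fact (Nat.Prime 3) := ⟨Nat.prime_three⟩
  have hA : IsPGroup 3 A0 := by
    rw [IsPGroup.iff_card]; exact ⟨5, card_A0⟩
  have hA' : IsPGroup 3 (A0.subgroupOf SuzThree.SylowThree.K) :=
    hA.comap_of_injective SuzThree.SylowThree.K.subtype Subtype.val_injective
  obtain ⟨Q, hQ⟩ := hA'.exists_le_sylow
  have hPc : Nat.card ((Q : Subgroup SuzThree.SylowThree.K).map SuzThree.SylowThree.K.subtype) =
      Nat.card (Q : Subgroup SuzThree.SylowThree.K) :=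
    card_map_of_injective SuzThree.SylowThree.K.subtype_injective
  have hd : 3 ^ 7 ∣ Nat.card ((Q : Subgroup SuzThree.SylowThree.K).map SuzThree.SylowThree.K.subtype) := by
    rw [hPc]; exact Q.pow_dvd_card_of_pow_dvd_card SuzThree.SylowThree.card_dvd
  have hp : IsPGroup 3 ((Q : Subgroup SuzThree.SylowThree.K).map SuzThree.SylowThree.K.subtype) := Q.isPGroup'.map _
  refine ⟨Sylow.ofCard ((Q : Subgroup SuzThree.SylowThree.K).map SuzThree.SylowThree.K.subtype) ?_, ?_, ?_⟩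
  · have hf := fac_three
    rw [hf]
    obtain ⟨k, hk⟩ := (IsPGroup.iff_card.1 hp)
    rw [hk]
    rw [hk] at hd
    have h1 : 7 ≤ k := (Nat.pow_dvd_pow_iff_le_right (by norm_num)).1 hd
    have h2 : 3 ^ k ∣ Nat.card Suz := hk ▸ card_subgroup_dvd_card _
    have h4 := (Nat.prime_three.pow_dvd_iff_le_factorization (by rw [card_Suz]; norm_num)).1 h2
    rw [hf] at h4
    rw [le_antisymm h4 h1]
  · intro a ha
    exact ⟨⟨a, SuzThree.SylowThree.A0_le_K ha⟩, hQ (Subgroup.mem_subgroupOf.2 ha), rfl⟩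
  · exact Subgroup.map_subtype_le _

theorem cube_of_map {g b : Suz} (hb : b ∈ A0.map (MulAut.conj g).toMonoidHom) : b ^ 3 = 1 := by
  obtain ⟨a, ha, rfl⟩ := hb
  rw [← map_pow, cube_A0 ha, map_one]

/-- **The normalizer of a Sylow 3-subgroup normalizes `A0`.** -/
theorem normalizer_le (P : Sylow 3 Suz) (hA : A0 ≤ P) (hK : (P : Subgroup Suz) ≤ SuzThree.SylowThree.K)
    (hP : Nat.card P ≤ 3 ^ 7) : normalizer ((P : Subgroup Suz) : Set Suz) ≤ NA := by
  have hfin := finSuz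
  intro g hg
  refine mem_normalizer_fintype fun a ha => ?_
  by_contra hb
  have hb' : g * a * g⁻¹ ∉ A0 := hb
  set B : Subgroup Suz := A0.map (MulAut.conj g).toMonoidHom with hB
  have hBP : B ≤ P := by
    rintro _ ⟨c, hc, rfl⟩
    exact (mem_normalizer_iff.1 hg c).1 (hA hc)
  have hbB : g * a * g⁻¹ ∈ B := ⟨a, ha, rfl⟩
  have hBc : Nat.card B = 243 := by
    rw [hB, ← card_A0]
    exact card_map_of_injective (MulAut.conj g).injective
  -- the element `b` of `NA`
  have hbK := hK (hBP hbB)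
  obtain ⟨hbN, hbS⟩ := SuzThree.SylowThree.mem_K.1 hbK
  obtain ⟨k0, k1⟩ := SuzThree.SylowThree.mem_S.1 hbS
  have h26 := card_fix' (b := ⟨_, hbN⟩) (cube_of_map hbB) k0 k1 hb'
  -- the intersection
  have hle : A0 ⊓ B ≤ A0 ⊓ centralizer {g * a * g⁻¹} := by
    rintro c ⟨hc, ⟨c', hc', rfl⟩⟩
    refine ⟨hc, mem_centralizer_singleton_iff.2 ?_⟩
    show (g * c' * g⁻¹) * (g * a * g⁻¹) = (g * a * g⁻¹) * (g * c' * g⁻¹)
    have h1 := comm_A0 ha hc'
    calc (g * c' * g⁻¹) * (g * a * g⁻¹) = g * (c' * a) * g⁻¹ := by group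
      _ = g * (a * c') * g⁻¹ := by rw [h1]
      _ = _ := by group
  have h27 : Nat.card ↥(A0 ⊓ B) ≤ 26 := (Subgroup.card_le_of_le hle).trans h26
  have h5 : Nat.card ↥(A0 ⊓ B) * A0.relIndex B = 243 := by
    rw [← hBc, ← Subgroup.inf_relIndex_right A0 B]
    have := Subgroup.card_mul_index ((A0 ⊓ B).subgroupOf B)
    rw [Nat.card_congr (subgroupOfEquivOfLe (inf_le_right : A0 ⊓ B ≤ B)).toEquiv] at this
    exact this
  have h7 : Nat.card A0 * A0.relIndex P = Nat.card P := by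
    have := Subgroup.card_mul_index (A0.subgroupOf P)
    rw [Nat.card_congr (subgroupOfEquivOfLe hA).toEquiv] at this
    exact this
  rw [card_A0] at h7
  have h6 : A0.relIndex B ≤ A0.relIndex P := by
    refine relIndex_le_of_le_right hBP ?_
    intro h
    rw [h, mul_zero] at h7
    have : 0 < Nat.card P := Nat.card_pos
    omega
  have h8 : A0.relIndex P ≤ 9 := by
    by_contra h
    push Not at h
    have : 243 * 10 ≤ Nat.card P := by rw [← h7]; exact Nat.mul_le_mul_left _ h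
    omega
  have h9 : Nat.card ↥(A0 ⊓ B) * A0.relIndex B ≤ 26 * 9 := Nat.mul_le_mul h27 (h6.trans h8)
  omega

/-- **`NA` contains the normalizer of a Sylow 3-subgroup.** -/
theorem exists_full : ∃ (_ : Fact (Nat.Prime 3)) (P : Sylow 3 Suz), normalizer ((P : Subgroup Suz) : Set Suz) ≤ NA := by
  have hfin := finSuz
  have h3 : Fact (Nat.Prime 3) := ⟨Nat.prime_three⟩
  obtain ⟨P, hA, hK⟩ := exists_sylow
  refine ⟨h3, P, normalizer_le P hA hK ?_⟩
  rw [P.card_eq_multiplicity, fac_three]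


end Cfsg.Agent.H212.SuzFive
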